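import Groth.Prelude.Def_W4c5algebraiztannakaNis
import Mathlib.RingTheory.Support
import Mathlib.RingTheory.Nakayama
import Mathlib.RingTheory.Smooth.Flat
import Mathlib.RingTheory.Flat.FaithfullyFlat.Basic
import Mathlib.RingTheory.Flat.FaithfullyFlat.Algebra
import Mathlib.RingTheory.Spectrum.Prime.RingHom
import Mathlib.AlgebraicGeometry.Morphisms.ClosedImmersion
import Mathlib.AlgebraicGeometry.Morphisms.Immersion
import Mathlib.AlgebraicGeometry.PullbackCarrier

/-!
Descent of numbers of generators along Nisnevich covers of bounded length.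
-/

set_option autoImplicit false
universe u

open CategoryTheory CategoryTheory.Limits AlgebraicGeometry TensorProduct W4c5algebraiztannaka

namespace Groth.Agent.CAlg9.NisSize

/-- `M` is generated by `k` elements. -/
def GenBy (R : Type*) (M : Type*) [Semiring R] [AddCommMonoid M] [Module R M] (k : ℕ) : Prop :=
  ∃ g : Fin k → M, Submodule.span R (Set.range g) = ⊤

theorem GenBy.mono {R M : Type*} [Semiring R] [AddCommMonoid M] [Module R M] {k k' : ℕ}
    (h : GenBy R M k) (hk : k ≤ k') : GenBy R M k' := by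
  obtain ⟨g, hg⟩ := h
  refine ⟨fun i => if hi : (i : ℕ) < k then g ⟨i, hi⟩ else 0, top_le_iff.mp (hg ▸ ?_)⟩
  refine Submodule.span_le.mpr ?_
  rintro _ ⟨i, rfl⟩
  exact Submodule.subset_span ⟨⟨i, i.2.trans_le hk⟩, dif_pos i.2⟩

theorem GenBy.of_surjective {R M M' : Type*} [Semiring R] [AddCommMonoid M] [Module R M]
    [AddCommMonoid M'] [Module R M'] {k : ℕ} (h : GenBy R M k) (f : M →ₗ[R] M')
    (hf : Function.Surjective f) : GenBy R M' k := by
  obtain ⟨g, hg⟩ := h
  refine ⟨f ∘ g, ?_⟩
  rw [Set.range_comp, Submodule.span_image, hg, Submodule.map_top, LinearMap.range_eq_top.mpr hf]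

theorem GenBy.prod {R M M' : Type*} [Semiring R] [AddCommMonoid M] [Module R M]
    [AddCommMonoid M'] [Module R M'] {k k' : ℕ} (h : GenBy R M k) (h' : GenBy R M' k') :
    GenBy R (M × M') (k + k') := by
  obtain ⟨g, hg⟩ := h
  obtain ⟨g', hg'⟩ := h'
  refine ⟨Fin.addCases (fun i => (g i, 0)) (fun j => (0, g' j)), top_le_iff.mp fun x _ => ?_⟩
  rw [show x = LinearMap.inl R M M' x.1 + LinearMap.inr R M M' x.2 from by simp]
  refine Submodule.add_mem _ ?_ ?_
  · have : LinearMap.inl R M M' x.1 ∈ Submodule.map (LinearMap.inl R M M') (Submodule.span R (Set.range g)) :=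
      ⟨_, hg ▸ Submodule.mem_top, rfl⟩
    rw [Submodule.map_span] at this
    refine Submodule.span_mono ?_ this
    rintro _ ⟨_, ⟨i, rfl⟩, rfl⟩
    exact ⟨Fin.castAdd k' i, by simp⟩
  · have : LinearMap.inr R M M' x.2 ∈ Submodule.map (LinearMap.inr R M M') (Submodule.span R (Set.range g')) :=
      ⟨_, hg' ▸ Submodule.mem_top, rfl⟩
    rw [Submodule.map_span] at this
    refine Submodule.span_mono ?_ this
    rintro _ ⟨_, ⟨i, rfl⟩, rfl⟩
    exact ⟨Fin.natAdd k i, by simp⟩

theorem genBy_pi (R : Type*) [Semiring R] (k : ℕ) : GenBy R (Fin k → R) k :=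
  ⟨fun i => Pi.basisFun R (Fin k) i, (Pi.basisFun R (Fin k)).span_eq⟩

theorem genBy_of_subsingleton (R M : Type*) [Semiring R] [AddCommMonoid M] [Module R M] [Subsingleton M] :
    GenBy R M 0 := ⟨Fin.elim0, Subsingleton.elim _ _⟩

theorem subsingleton_of_genBy_zero {R M : Type*} [Semiring R] [AddCommMonoid M] [Module R M]
    (h : GenBy R M 0) : Subsingleton M := by
  obtain ⟨g, hg⟩ := h
  rw [Set.range_eq_empty, Submodule.span_empty] at hg
  exact (Submodule.subsingleton_iff R).mp (subsingleton_of_bot_eq_top hg)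

theorem GenBy.finite {R M : Type*} [Semiring R] [AddCommMonoid M] [Module R M] {k : ℕ}
    (h : GenBy R M k) : Module.Finite R M := by
  obtain ⟨g, hg⟩ := h
  exact ⟨⟨(Set.finite_range g).toFinset, by rw [Set.Finite.coe_toFinset]; exact hg⟩⟩

/-- An immersion lifts morphisms from reduced schemes with image in its range. -/
theorem exists_lift {X Y T : Scheme.{u}} (f : Y ⟶ X) [IsImmersion f] [IsReduced T] (g : T ⟶ X)
    (h : Set.range g ⊆ Set.range f) : ∃ l : T ⟶ Y, l ≫ f = g := by
  have hs : Surjective (pullback.snd f g) := ⟨fun t => by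
    obtain ⟨y, hy⟩ := h ⟨t, rfl⟩
    obtain ⟨z, -, hz⟩ := Scheme.Pullback.exists_preimage_pullback y t hy
    exact ⟨z, hz⟩⟩
  have : IsClosedImmersion (pullback.snd f g) :=
    IsClosedImmersion.of_isPreimmersion _ (by rw [hs.surj.range_eq]; exact isClosed_univ)
  have := isIso_of_isClosedImmersion_of_surjective (pullback.snd f g)
  exact ⟨inv (pullback.snd f g) ≫ pullback.fst f g, by
    rw [Category.assoc, pullback.condition, IsIso.inv_hom_id_assoc]⟩

/-- The data of a Nisnevich cover of affine schemes of length at most `m`, in ring terms. -/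
def Flag (R B : Type u) [CommRing R] [CommRing B] [Algebra R B] (m : ℕ) : Prop :=
  ∃ Z : Fin (m + 1) → Set (PrimeSpectrum R), Z 0 = ∅ ∧ Z (Fin.last m) = Set.univ ∧
    (∀ k, IsClosed (Z k)) ∧ ∀ (k : Fin m) (I : Ideal R), I.IsRadical →
      PrimeSpectrum.zeroLocus (I : Set R) ⊆ Z k.succ \ Z k.castSucc → Nonempty (B →ₐ[R] R ⧸ I)

theorem flag_of_isNisCoverLen (R B : Type u) [CommRing R] [CommRing B] [Algebra R B] (m : ℕ)
    (h : IsNisCoverLen (Spec.map (CommRingCat.ofHom (algebraMap R B))) m) : Flag R B m := by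
  obtain ⟨Z, h0, h1, -, hc, hs⟩ := h.flag
  refine ⟨Z, h0, h1, fun k => (hc k).1, fun k I hI hsub => ?_⟩
  obtain ⟨T, g, s, hg, hrange, hsg⟩ := hs k
  have : _root_.IsReduced (R ⧸ I) := (Ideal.isRadical_iff_quotient_reduced I).mp hI
  obtain ⟨l, hl⟩ := exists_lift g (Spec.map (CommRingCat.ofHom (Ideal.Quotient.mk I))) (by
    show _ ⊆ Set.range (fun t : T => g t)
    rw [hrange]
    refine subset_trans (le_of_eq ?_) hsub
    exact (_root_.range_comap_of_surjective _ _ Ideal.Quotient.mk_surjective).trans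
      (by rw [Ideal.mk_ker]))
  obtain ⟨ψ, hψ⟩ : ∃ ψ : CommRingCat.of B ⟶ CommRingCat.of (R ⧸ I), Spec.map ψ = l ≫ s :=
    ⟨_, Spec.map_preimage _⟩
  have e : CommRingCat.ofHom (algebraMap R B) ≫ ψ = CommRingCat.ofHom (Ideal.Quotient.mk I) := by
    refine Spec.map_injective ?_
    rw [Spec.map_comp, hψ, Category.assoc, hsg, hl]
  exact ⟨{ ψ.hom with commutes' := fun r => congrArg (fun f => f.hom r) e }⟩

theorem flat_of_etale (R B : Type u) [CommRing R] [CommRing B] [Algebra R B]
    (h : Etale (Spec.map (CommRingCat.ofHom (algebraMap R B)))) : Module.Flat R B := by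
  have h1 : (algebraMap R B).Etale :=
    (HasRingHomProperty.Spec_iff (P := @Etale) (φ := CommRingCat.ofHom (algebraMap R B))).mp h
  have : Algebra.Etale R B := RingHom.etale_algebraMap.mp h1
  exact Algebra.Smooth.flat R B

namespace Flag

variable {R B : Type u} [CommRing R] [CommRing B] [Algebra R B] {m : ℕ}

/-- One closed stratum: quotient modules are generated after lifting along the section. -/
theorem genBy_quotient (I : Ideal R) (ψ : B →ₐ[R] R ⧸ I) (M : Type u) [AddCommGroup M] [Module R M]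
    {s : ℕ} (h : GenBy B (B ⊗[R] M) s) :
    ∃ g : Fin s → M, Submodule.span R (Set.range g) ⊔ I • ⊤ = ⊤ := by
  obtain ⟨g, hg⟩ := h
  let T : B ⊗[R] M →ₗ[R] (R ⧸ I) ⊗[R] M := ψ.toLinearMap.rTensor M
  have hT : ∀ (b : B) (z : B ⊗[R] M), T (b • z) = ψ b • T z := fun b z => by
    induction z using TensorProduct.induction_on with
    | zero => simp
    | tmul c x => simp [T, TensorProduct.smul_tmul']
    | add x y hx hy => rw [smul_add, map_add, map_add, hx, hy, smul_add]
  have hψ : Function.Surjective ψ.toLinearMap := fun y => by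
    obtain ⟨r, rfl⟩ := Ideal.Quotient.mk_surjective y
    exact ⟨algebraMap R B r, ψ.commutes r⟩
  let e := TensorProduct.quotTensorEquivQuotSMul M I
  choose x hx using fun i => Submodule.mkQ_surjective (I • ⊤ : Submodule R M) (e (T (g i)))
  refine ⟨x, top_le_iff.mp fun y _ => ?_⟩
  have hy : Submodule.mkQ (I • ⊤ : Submodule R M) y ∈
      (Submodule.span R (Set.range x)).map (Submodule.mkQ (I • ⊤ : Submodule R M)) := by
    obtain ⟨z, hz⟩ := LinearMap.rTensor_surjective M hψ (e.symm (Submodule.mkQ _ y))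
    rw [← e.apply_symm_apply (Submodule.mkQ _ y), ← hz]
    have hmem : z ∈ Submodule.span B (Set.range g) := hg ▸ Submodule.mem_top
    obtain ⟨c, rfl⟩ := Submodule.mem_span_range_iff_exists_fun B |>.mp hmem
    show e (T (∑ i, c i • g i)) ∈ _
    rw [map_sum, map_sum]
    refine Submodule.sum_mem _ fun i _ => ?_
    obtain ⟨r, hr⟩ := Ideal.Quotient.mk_surjective (ψ (c i))
    refine ⟨r • x i, Submodule.smul_mem _ _ (Submodule.subset_span ⟨i, rfl⟩), ?_⟩
    rw [map_smul, hx, hT, ← hr, ← map_smul e, ← algebraMap_smul (R ⧸ I) r (T (g i))]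
    rfl
  obtain ⟨z, hz, hzy⟩ := hy
  rw [Submodule.mem_sup]
  exact ⟨z, hz, y - z, (Submodule.Quotient.eq _).mp hzy.symm, add_sub_cancel _ _⟩

/-- The number of generators descends up to a factor `m`. -/
theorem genBy (h : Flag R B m) (M : Type u) [AddCommGroup M] [Module R M] [Module.Finite R M] {s : ℕ}
    (hgen : GenBy B (B ⊗[R] M) s) : GenBy R M (m * s) := by
  obtain ⟨Z, h0, h1, hc, hs⟩ := h
  suffices H : ∀ (j : ℕ) (hj : j ≤ m) (M : Type u) [AddCommGroup M] [Module R M] [Module.Finite R M],
      GenBy B (B ⊗[R] M) s → Disjoint (Module.support R M) (Z ⟨m - j, by omega⟩) → GenBy R M (j * s) by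
    refine H m le_rfl M hgen ?_
    simp [h0]
  clear! M
  intro j
  induction j with
  | zero =>
    intro _ M _ _ _ _ hd
    have : Subsingleton M := Module.support_eq_empty_iff.mp <| by
      rw [show (⟨m - 0, by omega⟩ : Fin (m + 1)) = Fin.last m from Fin.ext (by simp), h1] at hd
      simpa using hd
    simpa using genBy_of_subsingleton R M
  | succ j ih =>
    intro hj M _ _ _ hgen hd
    let k : Fin m := ⟨m - (j + 1), by omega⟩
    let I := PrimeSpectrum.vanishingIdeal (Module.support R M ∩ Z k.succ)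
    have hcl : IsClosed (Module.support R M ∩ Z k.succ) := by
      rw [Module.support_eq_zeroLocus]
      exact (PrimeSpectrum.isClosed_zeroLocus _).inter (hc _)
    have hI : PrimeSpectrum.zeroLocus (I : Set R) = Module.support R M ∩ Z k.succ := by
      rw [PrimeSpectrum.zeroLocus_vanishingIdeal_eq_closure, hcl.closure_eq]
    obtain ⟨ψ⟩ := hs k I (PrimeSpectrum.isRadical_vanishingIdeal _) (by
      rw [hI]
      exact fun p hp => ⟨hp.2, Set.disjoint_left.mp hd hp.1⟩)
    obtain ⟨g, hg⟩ := genBy_quotient I ψ M hgen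
    let S := Submodule.span R (Set.range g)
    have hsurj : Function.Surjective (S.mkQ.baseChange B) :=
      LinearMap.lTensor_surjective B (Submodule.mkQ_surjective S)
    obtain ⟨e, he, hann⟩ := Submodule.exists_sub_one_mem_and_smul_eq_zero_of_fg_of_le_smul I
      (⊤ : Submodule R (M ⧸ S)) Module.Finite.fg_top (by
        have := congrArg (Submodule.map S.mkQ) hg
        rw [Submodule.map_sup, Submodule.mkQ_map_self, bot_sup_eq, Submodule.map_smul'',
          Submodule.map_top, Submodule.range_mkQ] at this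
        exact this.ge)
    have hd' : Disjoint (Module.support R (M ⧸ S)) (Z ⟨m - j, by omega⟩) := by
      rw [show (⟨m - j, by omega⟩ : Fin (m + 1)) = k.succ from Fin.ext (by simp [k]; omega)]
      refine Set.disjoint_left.mpr fun p hp hpZ => ?_
      have hpM : p ∈ Module.support R M := Module.support_subset_of_surjective _ (Submodule.mkQ_surjective S) hp
      have hpI : I ≤ p.asIdeal := (PrimeSpectrum.mem_zeroLocus _ _).mp (hI.ge ⟨hpM, hpZ⟩)
      have hep : e ∈ p.asIdeal := by
        rw [Module.support_eq_zeroLocus] at hp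
        exact hp (Module.mem_annihilator.mpr fun y => hann y trivial)
      exact p.isPrime.ne_top ((Ideal.eq_top_iff_one _).mpr
        (by simpa using Ideal.sub_mem _ hep (hpI he)))
    obtain ⟨g', hg'⟩ := ih (by omega) (M ⧸ S) (hgen.of_surjective _ hsurj) hd'
    choose y hy using fun i => Submodule.mkQ_surjective S (g' i)
    rw [Nat.succ_mul]
    refine ⟨Fin.addCases y g, top_le_iff.mp fun x _ => ?_⟩
    have hx : S.mkQ x ∈ (Submodule.span R (Set.range y)).map S.mkQ := by
      rw [Submodule.map_span, ← Set.range_comp, show S.mkQ ∘ y = g' from funext hy, hg']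
      trivial
    obtain ⟨z, hz, hzx⟩ := hx
    have hxz : x - z ∈ S := (Submodule.Quotient.eq _).mp hzx.symm
    rw [show x = z + (x - z) by abel]
    refine Submodule.add_mem _ (Submodule.span_mono ?_ hz) (Submodule.span_mono ?_ hxz)
    · rintro _ ⟨i, rfl⟩; exact ⟨Fin.castAdd s i, by simp⟩
    · rintro _ ⟨i, rfl⟩; exact ⟨Fin.natAdd (j * s) i, by simp⟩

/-- A flat algebra with a flag is faithfully flat. -/
theorem faithfullyFlat (h : Flag R B m) [Module.Flat R B] : Module.FaithfullyFlat R B := by
  rw [Module.FaithfullyFlat.iff_flat_and_lTensor_faithful]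
  refine ⟨inferInstance, fun N _ _ hN => ?_⟩
  by_contra hne
  rw [not_nontrivial_iff_subsingleton] at hne
  obtain ⟨x, hx⟩ := exists_ne (0 : N)
  let S := Submodule.span R ({x} : Set N)
  have : Module.Finite R S := Module.Finite.span_singleton R x
  have hinj : Function.Injective (S.subtype.lTensor B) :=
    Module.Flat.lTensor_preserves_injective_linearMap _ S.injective_subtype
  have : Subsingleton (B ⊗[R] S) := hinj.subsingleton
  have h0 := h.genBy S (genBy_of_subsingleton B (B ⊗[R] S))
  rw [mul_zero] at h0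
  have := subsingleton_of_genBy_zero h0
  exact hx (congrArg Subtype.val (Subsingleton.elim (⟨x, Submodule.mem_span_singleton_self x⟩ : S) 0))

end Flag

end Groth.Agent.CAlg9.NisSize
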