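import Groth.Agent.CAlg9.NisSize.Step
import Mathlib.Algebra.Homology.Refinements
import Mathlib.Algebra.Category.ModuleCat.Abelian
import Mathlib.Algebra.Homology.Embedding.CochainComplex
import Mathlib.Algebra.Homology.Embedding.ExtendHomology
import Mathlib.Algebra.Homology.Embedding.HomEquiv
import Mathlib.Algebra.Homology.DerivedCategory.KProjective
import Mathlib.Algebra.Category.ModuleCat.Projective

/-!
Uniform bound on the size of perfect complexes which are small on a Nisnevich cover.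
-/

set_option autoImplicit false
universe u v

open CategoryTheory CategoryTheory.Limits HomologicalComplex

namespace Groth.Agent.CAlg9.NisSize

section Elem

variable {R : Type u} [Ring R] {ι : Type} {c : ComplexShape ι}
  {C D : HomologicalComplex (ModuleCat.{u} R) c}

theorem mono_homologyMap_iff (f : C ⟶ D) (i j k : ι) (hi : c.prev j = i) (hk : c.next j = k) :
    Mono (homologyMap f j) ↔ ∀ (x : C.X j) (y : D.X i), (C.d j k).hom x = 0 →
      (f.f j).hom x = (D.d i j).hom y → ∃ x₁ : C.X i, x = (C.d i j).hom x₁ := by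
  rw [mono_homologyMap_iff_up_to_refinements f i j k hi hk]
  constructor
  · intro h x y hx hxy
    let W : Submodule R (C.X j × D.X i) :=
      LinearMap.ker ((C.d j k).hom ∘ₗ LinearMap.fst R _ _) ⊓
        LinearMap.ker ((f.f j).hom ∘ₗ LinearMap.fst R _ _ - (D.d i j).hom ∘ₗ LinearMap.snd R _ _)
    have hw : (x, y) ∈ W := ⟨hx, by simp [hxy]⟩
    obtain ⟨A', π, hπ, x₁, he⟩ := h (A := ModuleCat.of R W)
      (ModuleCat.ofHom (LinearMap.fst R _ _ ∘ₗ W.subtype))
      (by ext w; exact w.2.1)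
      (ModuleCat.ofHom (LinearMap.snd R _ _ ∘ₗ W.subtype))
      (by ext w; exact sub_eq_zero.mp (LinearMap.mem_ker.mp w.2.2))
    obtain ⟨a, ha⟩ := (ModuleCat.epi_iff_surjective π).mp hπ ⟨(x, y), hw⟩
    refine ⟨x₁.hom a, ?_⟩
    have := congrArg (fun φ => φ.hom a) he
    simp only [ModuleCat.hom_comp, LinearMap.comp_apply, ha] at this
    exact this
  · intro h A x₂ hx₂ y₁ hy
    let W : Submodule R (A × C.X i) :=
      LinearMap.ker (x₂.hom ∘ₗ LinearMap.fst R _ _ - (C.d i j).hom ∘ₗ LinearMap.snd R _ _)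
    refine ⟨ModuleCat.of R W, ModuleCat.ofHom (LinearMap.fst R _ _ ∘ₗ W.subtype), ?_,
      ModuleCat.ofHom (LinearMap.snd R _ _ ∘ₗ W.subtype), ?_⟩
    · rw [ModuleCat.epi_iff_surjective]
      intro a
      have e1 := congrArg (fun φ => φ.hom a) hx₂
      have e2 := congrArg (fun φ => φ.hom a) hy
      obtain ⟨x₁, hx₁⟩ := h (x₂.hom a) (y₁.hom a) e1 e2
      exact ⟨⟨(a, x₁), by simp [W, hx₁]⟩, rfl⟩
    · ext w; exact sub_eq_zero.mp (LinearMap.mem_ker.mp w.2)

theorem epi_homologyMap_iff (f : C ⟶ D) (i j k : ι) (hi : c.prev j = i) (hk : c.next j = k) :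
    Epi (homologyMap f j) ↔ ∀ (y : D.X j), (D.d j k).hom y = 0 →
      ∃ (x : C.X j) (y₁ : D.X i), (C.d j k).hom x = 0 ∧ y = (f.f j).hom x + (D.d i j).hom y₁ := by
  rw [epi_homologyMap_iff_up_to_refinements f i j k hi hk]
  constructor
  · intro h y hy
    let W : Submodule R (D.X j) := LinearMap.ker (D.d j k).hom
    obtain ⟨A', π, hπ, x₂, hx₂, y₁, he⟩ := h (A := ModuleCat.of R W) (ModuleCat.ofHom W.subtype)
      (by ext w; exact w.2)
    obtain ⟨a, ha⟩ := (ModuleCat.epi_iff_surjective π).mp hπ ⟨y, hy⟩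
    refine ⟨x₂.hom a, y₁.hom a, congrArg (fun φ => φ.hom a) hx₂, ?_⟩
    have := congrArg (fun φ => φ.hom a) he
    simp only [ModuleCat.hom_comp, LinearMap.comp_apply, ha] at this
    exact this
  · intro h A y₂ hy₂
    let W : Submodule R (A × C.X j × D.X i) :=
      LinearMap.ker ((C.d j k).hom ∘ₗ LinearMap.fst R _ _ ∘ₗ LinearMap.snd R A (C.X j × D.X i)) ⊓
        LinearMap.ker (y₂.hom ∘ₗ LinearMap.fst R _ _ -
          (f.f j).hom ∘ₗ LinearMap.fst R _ _ ∘ₗ LinearMap.snd R A (C.X j × D.X i) -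
          (D.d i j).hom ∘ₗ LinearMap.snd R _ _ ∘ₗ LinearMap.snd R A (C.X j × D.X i))
    refine ⟨ModuleCat.of R W, ModuleCat.ofHom (LinearMap.fst R _ _ ∘ₗ W.subtype), ?_,
      ModuleCat.ofHom (LinearMap.fst R _ _ ∘ₗ LinearMap.snd R A (C.X j × D.X i) ∘ₗ W.subtype), ?_,
      ModuleCat.ofHom (LinearMap.snd R _ _ ∘ₗ LinearMap.snd R A (C.X j × D.X i) ∘ₗ W.subtype), ?_⟩
    · rw [ModuleCat.epi_iff_surjective]
      intro a
      obtain ⟨x, y₁, hx, he⟩ := h (y₂.hom a) (congrArg (fun φ => φ.hom a) hy₂)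
      exact ⟨⟨(a, x, y₁), by simp [W, hx, he]⟩, rfl⟩
    · ext w; exact w.2.1
    · ext w
      have := LinearMap.mem_ker.mp w.2.2
      simp only [LinearMap.sub_apply, LinearMap.comp_apply, sub_sub, sub_eq_zero] at this
      exact this

theorem quasiIsoAt_iff_elem (f : C ⟶ D) (i j k : ι) (hi : c.prev j = i) (hk : c.next j = k) :
    QuasiIsoAt f j ↔
      (∀ (x : C.X j) (y : D.X i), (C.d j k).hom x = 0 →
        (f.f j).hom x = (D.d i j).hom y → ∃ x₁ : C.X i, x = (C.d i j).hom x₁) ∧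
      ∀ (y : D.X j), (D.d j k).hom y = 0 →
        ∃ (x : C.X j) (y₁ : D.X i), (C.d j k).hom x = 0 ∧ y = (f.f j).hom x + (D.d i j).hom y₁ := by
  rw [quasiIsoAt_iff_isIso_homologyMap, isIso_iff_mono_and_epi, mono_homologyMap_iff f i j k hi hk,
    epi_homologyMap_iff f i j k hi hk]

end Elem

variable {R : Type u} [CommRing R]

/-- The elementary complex of a chain complex. -/
def ofCC (K : ChainComplex (ModuleCat.{u} R) ℕ) : Ch R where
  X n := K.X n
  d n := (K.d (n + 1) n).hom
  dd n x := by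
    rw [← LinearMap.comp_apply, ← ModuleCat.hom_comp, K.d_comp_d]
    rfl

/-- The chain complex of an elementary complex. -/
noncomputable def toCC (P : Ch R) : ChainComplex (ModuleCat.{u} R) ℕ :=
  ChainComplex.of (fun n => ModuleCat.of R (P.X n)) (fun n => ModuleCat.ofHom (P.d n))
    (fun n => ModuleCat.hom_ext (LinearMap.ext fun x => P.dd n x))

theorem toCC_d (P : Ch R) (n : ℕ) : (toCC P).d (n + 1) n = ModuleCat.ofHom (P.d n) :=
  show ChainComplex.of.d (fun n => ModuleCat.of R (P.X n)) (fun n => ModuleCat.ofHom (P.d n)) (n + 1) n = _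
    from ChainComplex.of_d _ _ n

/-- A morphism to the elementary complex of a chain complex. -/
noncomputable def toCCHom {P : Ch R} {K : ChainComplex (ModuleCat.{u} R) ℕ} (f : Ch.Hom P (ofCC K)) :
    toCC P ⟶ K where
  f n := ModuleCat.ofHom (f.f n)
  comm' i j hij := by
    obtain rfl : j + 1 = i := hij
    rw [toCC_d]
    exact ModuleCat.hom_ext (LinearMap.ext fun x => f.comm j x)

theorem quasiIso_toCCHom {P : Ch R} {K : ChainComplex (ModuleCat.{u} R) ℕ} (f : Ch.Hom P (ofCC K))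
    (hf : f.IsQis) : QuasiIso (toCCHom f) := ⟨fun n => by
  cases n with
  | zero =>
    rw [quasiIsoAt_iff_elem (toCCHom f) 1 0 0 (by simp) (by simp)]
    refine ⟨fun x y _ hxy => ?_, fun y _ => ?_⟩
    · obtain ⟨x₁, hx₁⟩ := hf.inj0 x y hxy
      exact ⟨x₁, by rw [toCC_d]; exact hx₁.symm⟩
    · obtain ⟨x, y₁, hxy⟩ := hf.surj0 y
      exact ⟨x, y₁, by rw [(toCC P).shape 0 0 (by simp)]; rfl, hxy⟩
  | succ n =>
    rw [quasiIsoAt_iff_elem (toCCHom f) (n + 2) (n + 1) n (by simp) (by simp)]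
    refine ⟨fun x y hx hxy => ?_, fun y hy => ?_⟩
    · rw [toCC_d] at hx
      obtain ⟨x₁, hx₁⟩ := hf.inj n x y hx hxy
      exact ⟨x₁, by rw [toCC_d]; exact hx₁.symm⟩
    · obtain ⟨x, y₁, hx, hxy⟩ := hf.surj n y hy
      exact ⟨x, y₁, by rw [toCC_d]; exact hx, hxy⟩⟩

/-- The local complex, read in degrees `≤ T`. -/
theorem loc_of_quasiIso (B : Type u) [CommRing B] [Algebra R B] (T : ℤ)
    (K : CochainComplex (ModuleCat.{u} R) ℤ) (K' : CochainComplex (ModuleCat.{u} B) ℤ)
    (jX : ∀ i, TensorProduct R B (K.X i) ≃ₗ[B] K'.X i)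
    (hj : ∀ i i' x, (K'.d i i').hom (jX i x) = jX i' ((K.d i i').hom.baseChange B x))
    (P₀ : CochainComplex (ModuleCat.{u} B) ℤ) (α : K' ⟶ P₀) [QuasiIso α]
    (hK : IsZero (K'.X (T + 1))) (hP : IsZero (P₀.X (T + 1)))
    (hproj : ∀ i, Module.Projective B (P₀.X i)) (L : ℕ) (s : ℕ → ℕ)
    (hgen : ∀ n : ℕ, GenBy B (P₀.X (T - n)) (s n))
    (hsub : ∀ n : ℕ, L < n → IsZero (P₀.X (T - n))) :
    (ofCC (K.restriction (ComplexShape.embeddingUpIntLE T))).Loc B L s := by
  let e := ComplexShape.embeddingUpIntLE T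
  let Q : Ch B := ofCC (P₀.restriction e)
  let af : ∀ n : ℕ, ((ofCC (K.restriction e)).bc B).X n →ₗ[B] Q.X n := fun n =>
    (α.f (T - n)).hom.comp (jX (T - n)).toLinearMap
  have hd : ∀ (i i' : ℤ) (x : TensorProduct R B (K.X i)),
      (P₀.d i i').hom ((α.f i).hom (jX i x)) = (α.f i').hom (jX i' ((K.d i i').hom.baseChange B x)) :=
    fun i i' x => by
      rw [← hj, ← LinearMap.comp_apply, ← ModuleCat.hom_comp, α.comm, ModuleCat.hom_comp]
      rfl
  let a : Ch.Hom ((ofCC (K.restriction e)).bc B) Q := ⟨af, fun n x => hd _ _ x⟩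
  have hq : ∀ i j k : ℤ, i + 1 = j → j + 1 = k →
      (∀ (x : TensorProduct R B (K.X j)) (y : P₀.X i), (K.d j k).hom.baseChange B x = 0 →
        (α.f j).hom (jX j x) = (P₀.d i j).hom y → ∃ x₁, (K.d i j).hom.baseChange B x₁ = x) ∧
      ∀ (y : P₀.X j), (P₀.d j k).hom y = 0 →
        ∃ (x : TensorProduct R B (K.X j)) (y₁ : P₀.X i), (K.d j k).hom.baseChange B x = 0 ∧
          y = (α.f j).hom (jX j x) + (P₀.d i j).hom y₁ := by
    intro i j k hij hjk
    obtain ⟨h1, h2⟩ := (quasiIsoAt_iff_elem α i j k (by simp; omega) (by simp; omega)).mp inferInstance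
    refine ⟨fun x y hx hxy => ?_, fun y hy => ?_⟩
    · obtain ⟨x₁, hx₁⟩ := h1 (jX j x) y (by rw [hj, hx, map_zero]) hxy
      refine ⟨(jX i).symm x₁, (jX j).injective ?_⟩
      rw [← hj, LinearEquiv.apply_symm_apply, hx₁]
    · obtain ⟨x, y₁, hx, hxy⟩ := h2 y hy
      refine ⟨(jX j).symm x, y₁, (jX k).injective ?_, by rw [LinearEquiv.apply_symm_apply]; exact hxy⟩
      rw [← hj, LinearEquiv.apply_symm_apply, hx, map_zero]
  have ht : ∀ (M : ModuleCat.{u} B), IsZero M → Subsingleton M := fun M hM =>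
    ModuleCat.subsingleton_of_isZero hM
  refine ⟨Q, a, ⟨fun x y hxy => ?_, fun y => ?_, fun n x y hx hxy => ?_, fun n y hy => ?_⟩,
    fun n => hproj _, fun n => hgen n, fun n hn => ht _ (hsub n hn)⟩
  · have := (jX (T + 1)).toEquiv.subsingleton_congr.mpr (ht _ hK)
    exact (hq (T - (0 + 1 : ℕ)) (T - (0 : ℕ)) (T + 1) (by simp) (by simp)).1 x y
      (Subsingleton.elim _ _) hxy
  · have := ht _ hP
    obtain ⟨x, y₁, -, hxy⟩ := (hq (T - (0 + 1 : ℕ)) (T - (0 : ℕ)) (T + 1) (by simp) (by simp)).2 y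
      (Subsingleton.elim _ _)
    exact ⟨x, y₁, hxy⟩
  · exact (hq (T - (n + 1 + 1 : ℕ)) (T - (n + 1 : ℕ)) (T - (n : ℕ)) (by push_cast; ring)
      (by push_cast; ring)).1 x y hx hxy
  · exact (hq (T - (n + 1 + 1 : ℕ)) (T - (n + 1 : ℕ)) (T - (n : ℕ)) (by push_cast; ring)
      (by push_cast; ring)).2 y hy

/-- A complex concentrated in degrees `≤ T` is the extension of its restriction. -/
theorem exists_iso_extend (T : ℤ) (E : CochainComplex (ModuleCat.{u} R) ℤ)
    (hE : ∀ i, T < i → IsZero (E.X i)) :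
    Nonempty (E ≅ (E.restriction (ComplexShape.embeddingUpIntLE T)).extend
      (ComplexShape.embeddingUpIntLE T)) := by
  let e := ComplexShape.embeddingUpIntLE T
  have hlift : e.HasLift (𝟙 (E.restriction e)) := fun j hj _ _ =>
    absurd (show (ComplexShape.up ℤ).Rel (e.f (j + 1)) (e.f j) by
      show T - ((j + 1 : ℕ) : ℤ) + 1 = T - (j : ℤ)
      push_cast; ring) (hj.2 (j + 1))
  let ψ := e.liftExtend (𝟙 (E.restriction e)) hlift
  have : ∀ i, IsIso (ψ.f i) := fun i => by
    by_cases hi : i ≤ T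
    · have hn : e.f (T - i).toNat = i := by
        show T - ((T - i).toNat : ℤ) = i
        omega
      rw [e.liftExtend_f _ hlift hn]
      simp only [HomologicalComplex.id_f]
      infer_instance
    · refine ⟨0, (hE i (by omega)).eq_of_src _ _, IsZero.eq_of_src ?_ _ _⟩
      refine HomologicalComplex.isZero_extend_X _ e i fun n hn => ?_
      have : T - (n : ℤ) = i := hn
      omega
  exact ⟨HomologicalComplex.Hom.isoOfComponents (fun i => asIso (ψ.f i))⟩

attribute [local instance] HasDerivedCategory.standard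

/-- An isomorphism in the derived category out of a bounded above complex of projectives is
given by a quasi-isomorphism of complexes. -/
theorem exists_quasiIso {B : Type u} [CommRing B] (K L : DRing.Cx B) (d : ℤ)
    (hK : ∀ i, d < i → IsZero (K.X i)) (hKp : ∀ i, Module.Projective B (K.X i))
    (i : DRing.toD K ≅ DRing.toD L) : ∃ α : K ⟶ L, QuasiIso α := by
  have : CochainComplex.IsStrictlyLE K d := (CochainComplex.isStrictlyLE_iff K d).mpr hK
  have hpp : ∀ n, Projective (K.X n) := fun n => by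
    have := hKp n
    exact ModuleCat.projective_of_categoryTheory_projective (K.X n)
  have := CochainComplex.isKProjective_of_projective K d
  obtain ⟨g, hg⟩ := (CochainComplex.IsKProjective.Qh_map_bijective K
    ((HomotopyCategory.quotient _ _).obj L)).surjective
    ((DerivedCategory.quotientCompQhIso _).hom.app K ≫ i.hom ≫
      (DerivedCategory.quotientCompQhIso _).inv.app L)
  obtain ⟨α, rfl⟩ := (HomotopyCategory.quotient _ _).map_surjective g
  refine ⟨α, ?_⟩
  rw [← DerivedCategory.isIso_Q_map_iff_quasiIso]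
  have h1 : DerivedCategory.Q.map α = i.hom := by
    have := (DerivedCategory.quotientCompQhIso (ModuleCat.{u} B)).hom.naturality α
    rw [Functor.comp_map, hg] at this
    simp only [Category.assoc] at this
    rw [Iso.inv_hom_id_app] at this
    erw [Category.comp_id] at this
    exact ((cancel_epi _).mp this).symm
  rw [h1]
  infer_instance

end Groth.Agent.CAlg9.NisSize
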