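import Groth.Agent.CAlg9.NisSize.Bridge

/-!
Uniform bound on the size of perfect complexes which are small on a Nisnevich cover.
-/

set_option autoImplicit false
universe u

open CategoryTheory CategoryTheory.Limits W4c5algebraiztannaka TensorProduct

attribute [local instance] HasDerivedCategory.standard

namespace Groth.Agent.CAlg9.NisSize

/-- The size profile of a complex in degrees `[-N, N]`. -/
def profile (N : ℕ) : ℕ → ℕ := fun n => if n ≤ 2 * N then N else 0

/-- The global bound. -/
def sizeBound (N : ℕ) : ℕ :=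
  N + ∑ n ∈ Finset.range (2 * N + 1), bound N (2 * N) (profile N) n

theorem shift_iterate_apply (s : ℕ → ℕ) : ∀ (k n : ℕ),
    shift^[k] s n = if n < k then 0 else s (n - k)
  | 0, n => by simp
  | k + 1, 0 => by simp [Function.iterate_succ_apply', shift]
  | k + 1, n + 1 => by simp [Function.iterate_succ_apply', shift, shift_iterate_apply s k n]

theorem genBy_of_isZero {B : Type u} [CommRing B] (M : ModuleCat.{u} B) (h : IsZero M) :
    GenBy B M 0 := by
  have := ModuleCat.subsingleton_of_isZero h
  exact genBy_of_subsingleton B M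

theorem exists_surjective_of_genBy {A M : Type u} [CommRing A] [AddCommGroup M] [Module A M] {k : ℕ}
    (h : GenBy A M k) : ∃ g : (Fin k → A) →ₗ[A] M, Function.Surjective g := by
  obtain ⟨g, hg⟩ := h
  exact ⟨Fintype.linearCombination A g,
    LinearMap.range_eq_top.mp (by rw [Fintype.range_linearCombination]; exact hg)⟩

theorem genBy_of_surjective_pi {A M : Type u} [CommRing A] [AddCommGroup M] [Module A M] {k : ℕ}
    (g : (Fin k → A) →ₗ[A] M) (hg : Function.Surjective g) : GenBy A M k :=
  (genBy_pi A k).of_surjective g hg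

/-- The representative in degrees `≤ T`, given the local hypothesis. -/
theorem globSize_of_build {R : Type u} [CommRing R] (E : DRing.Cx R) (N k : ℕ)
    (hE : ∀ i : ℤ, (N : ℤ) + k < i → IsZero (E.X i))
    (h : ∃ (P : Ch R) (f : Ch.Hom P (ofCC (E.restriction (ComplexShape.embeddingUpIntLE ((N : ℤ) + k))))),
      f.IsQis ∧ (∀ n, Module.Projective R (P.X n)) ∧
        ∀ n, GenBy R (P.X n) (bound N (2 * N + k) (shift^[k] (profile N)) n)) :
    GlobSize R (DRing.toD E) (sizeBound N) := by
  obtain ⟨P', f, hf, hproj, hgen⟩ := h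
  let T : ℤ := (N : ℤ) + k
  let e := ComplexShape.embeddingUpIntLE T
  have hq := quasiIso_toCCHom f hf
  obtain ⟨iso⟩ := exists_iso_extend T E hE
  let P : DRing.Cx R := (toCC P').extend e
  let ψ : P ⟶ E := HomologicalComplex.extendMap (toCCHom f) e ≫ iso.inv
  have hψ : QuasiIso ψ := by
    have : QuasiIso (HomologicalComplex.extendMap (toCCHom f) e) :=
      (HomologicalComplex.quasiIso_extendMap_iff _ _).mpr hq
    infer_instance
  have hX : ∀ n : ℕ, Nonempty (P.X (T - n) ≃ₗ[R] P'.X n) := fun n =>
    ⟨(HomologicalComplex.extendXIso (toCC P') e (i := n) (i' := T - n) rfl).toLinearEquiv⟩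
  have hb : ∀ n : ℕ, GenBy R (P'.X n) (if n < k then 0 else bound N (2 * N) (profile N) (n - k)) :=
    fun n => by rw [← bound_shift_iterate]; exact hgen n
  have hz : ∀ n : ℕ, GenBy R (P'.X n) 0 → IsZero (P.X (T - n)) := fun n h0 => by
    obtain ⟨e'⟩ := hX n
    have := subsingleton_of_genBy_zero h0
    have : Subsingleton (P.X (T - n)) := e'.toEquiv.subsingleton
    exact ModuleCat.isZero_of_subsingleton _
  have hout : ∀ i : ℤ, T < i → IsZero (P.X i) := fun i hi =>
    HomologicalComplex.isZero_extend_X _ e i fun n hn => by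
      have : T - (n : ℤ) = i := hn
      omega
  have hwin : ∀ i : ℤ, i < -(N : ℤ) ∨ (N : ℤ) < i → IsZero (P.X i) := fun i hi => by
    by_cases hiT : T < i
    · exact hout i hiT
    · obtain ⟨n, rfl⟩ : ∃ n : ℕ, T - n = i := ⟨(T - i).toNat, by omega⟩
      refine hz n ?_
      have := hb n
      split_ifs at this with hnk
      · exact this
      · rw [bound_eq_zero N (2 * N) (profile N) (n - k) (by simp only [T] at hi; omega)] at this
        exact this
  refine ⟨P, ⟨fun i hi => hwin i ?_, fun i => ?_⟩, ⟨asIso (DerivedCategory.Q.map ψ)⟩⟩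
  · have : N ≤ sizeBound N := Nat.le_add_right _ _
    omega
  · by_cases hiT : T < i
    · have := ModuleCat.subsingleton_of_isZero (hout i hiT)
      exact ⟨inferInstance, 0, fun y => ⟨0, Subsingleton.elim _ _⟩⟩
    · obtain ⟨n, rfl⟩ : ∃ n : ℕ, T - n = i := ⟨(T - i).toNat, by omega⟩
      obtain ⟨e'⟩ := hX n
      have := hproj n
      refine ⟨Module.Projective.of_equiv e'.symm, exists_surjective_of_genBy ?_⟩
      refine ((hb n).of_surjective e'.symm.toLinearMap e'.symm.surjective).mono ?_
      split_ifs with hnk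
      · exact Nat.zero_le _
      · by_cases hn : n - k ≤ 2 * N
        · exact le_add_left (Finset.single_le_sum (f := fun j => bound N (2 * N) (profile N) j)
            (fun _ _ => Nat.zero_le _) (Finset.mem_range.mpr (by omega)))
        · rw [bound_eq_zero N (2 * N) (profile N) (n - k) (by omega)]
          exact Nat.zero_le _

theorem globSize_of_locSize (R : Type u) [CommRing R] (E : DRing.Cx R) (a b : ℤ)
    (hvan : DRing.VanishesOutside E a b) (hfp : DRing.TermwiseFiniteProjective E) (N : ℕ)
    (h : LocSize E N) : GlobSize R (DRing.toD E) (sizeBound N) := by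
  obtain ⟨B, _, φ, hcov, P₀, ⟨hP₀v, hP₀⟩, ⟨iso⟩⟩ := h
  let _ : Algebra R B := φ.toAlgebra
  have hflat : Module.Flat R B := flat_of_etale R B hcov.etale
  have hflag : Flag R B N := flag_of_isNisCoverLen R B N hcov
  let k := (b - N).toNat
  let T : ℤ := (N : ℤ) + k
  have hT : b ≤ T := by simp only [T, k]; omega
  let EB : DRing.Cx B := (bcCx φ).obj E
  have hEBz : ∀ i, T < i → IsZero (EB.X i) := fun i hi =>
    (ModuleCat.extendScalars.{u, u, u} φ).map_isZero (hvan i (Or.inr (by omega)))
  have hEBp : ∀ i, Module.Projective B (EB.X i) := fun i => by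
    have := (hfp i).2
    exact (inferInstance : Module.Projective B (B ⊗[R] E.X i))
  obtain ⟨α, hα⟩ := exists_quasiIso EB P₀ T hEBz hEBp iso.symm
  have hfp' : (ofCC (E.restriction (ComplexShape.embeddingUpIntLE T))).FP := fun n => hfp _
  let jX : ∀ i, B ⊗[R] E.X i ≃ₗ[B] EB.X i := fun i => LinearEquiv.refl B (EB.X i)
  have hloc : (ofCC (E.restriction (ComplexShape.embeddingUpIntLE T))).Loc B (2 * N + k)
      (shift^[k] (profile N)) := by
    refine loc_of_quasiIso B T E EB jX (fun i i' x => rfl) P₀ α (hEBz _ (by omega))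
      (hP₀v _ (Or.inr (by omega))) (fun i => (hP₀ i).1) _ _ (fun n => ?_) (fun n hn => hP₀v _ (Or.inl (by omega)))
    rw [shift_iterate_apply]
    split_ifs with hnk
    · exact genBy_of_isZero _ (hP₀v _ (Or.inr (by simp only [T]; omega)))
    · simp only [profile]
      split_ifs with hn
      · obtain ⟨g, hg⟩ := (hP₀ (T - n)).2
        exact genBy_of_surjective_pi g hg
      · exact genBy_of_isZero _ (hP₀v _ (Or.inl (by simp only [T]; omega)))
  exact globSize_of_build E N k (fun i hi => hvan i (Or.inr (by omega)))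
    (build hflag _ _ _ hfp' hloc)

end Groth.Agent.CAlg9.NisSize
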