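import Groth.Agent.CAlg9.NisSize.Gen
import Mathlib.RingTheory.Finiteness.Projective
import Mathlib.RingTheory.TensorProduct.Basic
import Mathlib.LinearAlgebra.TensorProduct.Pi
import Mathlib.RingTheory.Flat.EquationalCriterion
import Mathlib.RingTheory.Flat.FaithfullyFlat.Descent

/-!
Elementary complexes `⋯ → X 1 → X 0` of finite projective modules: if after a flat base change the
complex is quasi-isomorphic to one with terms of bounded size and length, then so it is over the base,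
with bounds depending only on the length of a flag for the cover.
-/

set_option autoImplicit false
universe u

open TensorProduct

namespace Groth.Agent.CAlg9.NisSize

/-- Complexes `⋯ → X 1 → X 0`. -/
structure Ch (R : Type u) [CommRing R] where
  X : ℕ → Type u
  [acg : ∀ n, AddCommGroup (X n)]
  [mod : ∀ n, Module R (X n)]
  d : ∀ n, X (n + 1) →ₗ[R] X n
  dd : ∀ n (x : X (n + 2)), d n (d (n + 1) x) = 0

attribute [instance] Ch.acg Ch.mod

/-- Morphisms. -/
structure Ch.Hom {R : Type u} [CommRing R] (C D : Ch R) where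
  f : ∀ n, C.X n →ₗ[R] D.X n
  comm : ∀ n (x : C.X (n + 1)), D.d n (f (n + 1) x) = f n (C.d n x)

/-- Quasi-isomorphisms. -/
structure Ch.Hom.IsQis {R : Type u} [CommRing R] {C D : Ch R} (a : Ch.Hom C D) : Prop where
  inj0 : ∀ (x : C.X 0) (y : D.X 1), a.f 0 x = D.d 0 y → ∃ x₁, C.d 0 x₁ = x
  surj0 : ∀ y : D.X 0, ∃ (x : C.X 0) (y₁ : D.X 1), y = a.f 0 x + D.d 0 y₁
  inj : ∀ n (x : C.X (n + 1)) (y : D.X (n + 2)), C.d n x = 0 → a.f (n + 1) x = D.d (n + 1) y →
    ∃ x₁, C.d (n + 1) x₁ = x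
  surj : ∀ n (y : D.X (n + 1)), D.d n y = 0 →
    ∃ (x : C.X (n + 1)) (y₁ : D.X (n + 2)), C.d n x = 0 ∧ y = a.f (n + 1) x + D.d (n + 1) y₁

/-- Base change. -/
noncomputable def Ch.bc {R : Type u} [CommRing R] (B : Type u) [CommRing B] [Algebra R B] (C : Ch R) :
    Ch B where
  X n := B ⊗[R] C.X n
  d n := (C.d n).baseChange B
  dd n x := by
    induction x using TensorProduct.induction_on with
    | zero => simp
    | tmul b y => simp [C.dd]
    | add x y hx hy => rw [map_add, map_add, hx, hy, add_zero]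

/-- Finite projective terms. -/
def Ch.FP {R : Type u} [CommRing R] (C : Ch R) : Prop :=
  ∀ n, Module.Finite R (C.X n) ∧ Module.Projective R (C.X n)

/-- After base change to `B`, quasi-isomorphic to a complex of size `s` and length `L`. -/
def Ch.Loc {R : Type u} [CommRing R] (B : Type u) [CommRing B] [Algebra R B] (C : Ch R) (L : ℕ)
    (s : ℕ → ℕ) : Prop :=
  ∃ (Q : Ch B) (a : Ch.Hom (C.bc B) Q), a.IsQis ∧ (∀ n, Module.Projective B (Q.X n)) ∧
    (∀ n, GenBy B (Q.X n) (s n)) ∧ ∀ n, L < n → Subsingleton (Q.X n)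

/-- The sizes after removing the top degree. -/
def next (m : ℕ) (s : ℕ → ℕ) : ℕ → ℕ
  | 0 => s 1 + m * s 0
  | n + 1 => s (n + 2)

/-- The global bound. -/
def bound (m : ℕ) : ℕ → (ℕ → ℕ) → ℕ → ℕ
  | 0, s, 0 => m * s 0
  | 0, _, _ + 1 => 0
  | _ + 1, s, 0 => m * s 0
  | L + 1, s, n + 1 => bound m L (next m s) n

theorem bound_eq_zero (m : ℕ) : ∀ (L : ℕ) (s : ℕ → ℕ) (n : ℕ), L < n → bound m L s n = 0
  | 0, _, _ + 1, _ => rfl
  | L + 1, s, n + 1, h => bound_eq_zero m L (next m s) n (by omega)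

/-- Prefix a zero. -/
def shift (s : ℕ → ℕ) : ℕ → ℕ
  | 0 => 0
  | n + 1 => s n

theorem next_shift (m : ℕ) (s : ℕ → ℕ) : next m (shift s) = s := by
  funext n; cases n <;> simp [next, shift]

theorem bound_shift_iterate (m : ℕ) (L : ℕ) (s : ℕ → ℕ) : ∀ (k n : ℕ),
    bound m (L + k) (shift^[k] s) n = if n < k then 0 else bound m L s (n - k)
  | 0, n => by simp
  | k + 1, 0 => by simp [Function.iterate_succ_apply', bound, shift, ← add_assoc]
  | k + 1, n + 1 => by
    simp [Function.iterate_succ_apply', bound, ← add_assoc, next_shift, bound_shift_iterate m L s k n]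

variable {R : Type u} [CommRing R] {B : Type u} [CommRing B] [Algebra R B] {m : ℕ}

theorem genBy_baseChange {M : Type u} [AddCommGroup M] [Module R M] {k : ℕ} (h : GenBy R M k) :
    GenBy B (B ⊗[R] M) k := by
  obtain ⟨g, hg⟩ := h
  refine ⟨fun i => 1 ⊗ₜ g i, top_le_iff.mp fun z _ => ?_⟩
  induction z using TensorProduct.induction_on with
  | zero => exact zero_mem _
  | add x y hx hy => exact add_mem (hx trivial) (hy trivial)
  | tmul b x =>
    obtain ⟨c, rfl⟩ := Submodule.mem_span_range_iff_exists_fun R |>.mp (hg ▸ Submodule.mem_top : x ∈ _)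
    rw [tmul_sum]
    refine Submodule.sum_mem _ fun i _ => ?_
    rw [← smul_tmul, show (c i • b) ⊗ₜ[R] g i = (c i • b) • ((1 : B) ⊗ₜ[R] g i) by
      rw [smul_tmul', smul_eq_mul, mul_one]]
    exact Submodule.smul_mem _ _ (Submodule.subset_span ⟨i, rfl⟩)

section BaseChange

variable {M₁ M₂ M₃ : Type u} [AddCommGroup M₁] [Module R M₁] [AddCommGroup M₂] [Module R M₂]
  [AddCommGroup M₃] [Module R M₃]

theorem bc_comp_apply (f : M₁ →ₗ[R] M₂) (g : M₂ →ₗ[R] M₃) (w : B ⊗[R] M₁) :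
    g.baseChange B (f.baseChange B w) = (g.comp f).baseChange B w := by
  rw [LinearMap.baseChange_comp]; rfl

theorem fst_inl_bc (w : B ⊗[R] M₁) :
    (LinearMap.fst R M₁ M₂).baseChange B ((LinearMap.inl R M₁ M₂).baseChange B w) = w := by
  rw [bc_comp_apply, LinearMap.fst_comp_inl, LinearMap.baseChange_id]; rfl

theorem snd_inl_bc (w : B ⊗[R] M₁) :
    (LinearMap.snd R M₁ M₂).baseChange B ((LinearMap.inl R M₁ M₂).baseChange B w) = 0 := by
  rw [bc_comp_apply, LinearMap.snd_comp_inl, LinearMap.baseChange_zero]; rfl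

theorem fst_inr_bc (w : B ⊗[R] M₂) :
    (LinearMap.fst R M₁ M₂).baseChange B ((LinearMap.inr R M₁ M₂).baseChange B w) = 0 := by
  rw [bc_comp_apply, LinearMap.fst_comp_inr, LinearMap.baseChange_zero]; rfl

theorem snd_inr_bc (w : B ⊗[R] M₂) :
    (LinearMap.snd R M₁ M₂).baseChange B ((LinearMap.inr R M₁ M₂).baseChange B w) = w := by
  rw [bc_comp_apply, LinearMap.snd_comp_inr, LinearMap.baseChange_id]; rfl

theorem mkQ_range_bc (f : M₁ →ₗ[R] M₂) (w : B ⊗[R] M₁) :
    (LinearMap.range f).mkQ.baseChange B (f.baseChange B w) = 0 := by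
  rw [bc_comp_apply, LinearMap.range_mkQ_comp, LinearMap.baseChange_zero]; rfl

end BaseChange

/-- A module which becomes the cokernel of a small complex is small. -/
theorem genBy_coker (hfl : Flag R B m) {C : Ch R} (hC : C.FP) {Q : Ch B} (a : Ch.Hom (C.bc B) Q)
    (ha : a.IsQis) {s : ℕ} (hQ : GenBy B (Q.X 0) s) :
    GenBy R (C.X 0 ⧸ LinearMap.range (C.d 0)) (m * s) := by
  have := (hC 0).1
  refine hfl.genBy _ ?_
  let π : (C.bc B).X 0 →ₗ[B] B ⊗[R] (C.X 0 ⧸ LinearMap.range (C.d 0)) :=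
    (LinearMap.range (C.d 0)).mkQ.baseChange B
  have hπ : Function.Surjective π := LinearMap.lTensor_surjective B (Submodule.mkQ_surjective _)
  have hπd : ∀ w, π ((C.bc B).d 0 w) = 0 := fun w => mkQ_range_bc (C.d 0) w
  obtain ⟨q, hq⟩ := hQ
  choose x y hxy using fun i => ha.surj0 (q i)
  refine ⟨fun i => π (x i), top_le_iff.mp fun z _ => ?_⟩
  obtain ⟨v, rfl⟩ := hπ z
  obtain ⟨c, hc⟩ := Submodule.mem_span_range_iff_exists_fun B |>.mp
    (hq ▸ Submodule.mem_top : a.f 0 v ∈ _)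
  obtain ⟨w, hw⟩ := ha.inj0 (v - ∑ i, c i • x i) (∑ i, c i • y i) (by
    rw [map_sub, ← hc, map_sum, map_sum, ← Finset.sum_sub_distrib]
    refine Finset.sum_congr rfl fun i _ => ?_
    rw [hxy, map_smul, map_smul, smul_add, add_sub_cancel_left])
  have hv : π v = π (∑ i, c i • x i) := by
    have h1 := hπd w
    rw [hw, map_sub, sub_eq_zero] at h1
    exact h1
  rw [hv, map_sum]
  exact Submodule.sum_mem _ fun i _ => (map_smul π (c i) (x i)).symm ▸
    Submodule.smul_mem _ _ (Submodule.subset_span ⟨i, rfl⟩)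

/-- Length zero. -/
theorem build_zero (hfl : Flag R B m) [Module.Flat R B] {C : Ch R} (hC : C.FP) {s : ℕ → ℕ}
    (h : C.Loc B 0 s) : ∃ (P : Ch R) (f : Ch.Hom P C), f.IsQis ∧ (∀ n, Module.Projective R (P.X n)) ∧
      ∀ n, GenBy R (P.X n) (bound m 0 s n) := by
  have := hfl.faithfullyFlat
  obtain ⟨Q, a, ha, hproj, hgen, hsub⟩ := h
  have := (hC 0).1
  have := (hC 0).2
  have := (hC 1).1
  let W := LinearMap.range (C.d 0)
  let M := C.X 0 ⧸ W
  have hgM : GenBy R M (m * s 0) := genBy_coker hfl hC a ha (hgen 0)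
  have hz : ∀ n (y : Q.X (n + 1)), y = 0 := fun n y => @Subsingleton.elim _ (hsub (n + 1) (by omega)) _ _
  have hexact : ∀ n, Function.Exact (C.d (n + 1)) (C.d n) := fun n => by
    rw [← Module.FaithfullyFlat.lTensor_exact_iff_exact R B]
    intro x
    constructor
    · intro hx
      obtain ⟨x₁, hx₁⟩ := ha.inj n x 0 hx (by rw [map_zero]; exact hz n _)
      exact ⟨x₁, hx₁⟩
    · rintro ⟨x₁, rfl⟩
      exact (C.bc B).dd n x₁
  -- the cokernel is projective
  let π : (C.bc B).X 0 →ₗ[B] B ⊗[R] M := W.mkQ.baseChange B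
  have hπ : Function.Surjective π := LinearMap.lTensor_surjective B (Submodule.mkQ_surjective _)
  have ha0 : Function.Surjective (a.f 0) := fun y => by
    obtain ⟨x, y₁, rfl⟩ := ha.surj0 y
    exact ⟨x, by rw [hz 0 y₁, map_zero, add_zero]⟩
  have hexπ : Function.Exact ((C.bc B).d 0) π :=
    lTensor_exact B (LinearMap.exact_map_mkQ_range _) (Submodule.mkQ_surjective _)
  have hker : LinearMap.ker π = LinearMap.ker (a.f 0) := by
    ext v
    rw [LinearMap.mem_ker, LinearMap.mem_ker, hexπ v]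
    constructor
    · rintro ⟨w, rfl⟩
      rw [← a.comm 0 w, hz 0 (a.f 1 w), map_zero]
    · intro hv
      exact ha.inj0 v 0 (by rw [hv, map_zero])
  let e : (B ⊗[R] M) ≃ₗ[B] Q.X 0 := (π.quotKerEquivOfSurjective hπ).symm ≪≫ₗ
    Submodule.quotEquivOfEq _ _ hker ≪≫ₗ (a.f 0).quotKerEquivOfSurjective ha0
  have := hproj 0
  have : Module.Projective B (B ⊗[R] M) := Module.Projective.of_equiv e.symm
  have : Module.Flat R M := Module.Flat.of_flat_tensorProduct R M B
  have : Module.FinitePresentation R (C.X 0) := Module.finitePresentation_of_projective R _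
  have : Module.FinitePresentation R M := Module.finitePresentation_of_surjective W.mkQ
    (Submodule.mkQ_surjective _) (by
      rw [Submodule.ker_mkQ]
      have hfg := (Module.Finite.fg_top (R := R) (M := C.X 1)).map (C.d 0)
      rwa [Submodule.map_top] at hfg)
  have : Module.Projective R M := Module.Flat.projective_of_finitePresentation
  obtain ⟨σ, hσ⟩ := Module.projective_lifting_property W.mkQ LinearMap.id (Submodule.mkQ_surjective _)
  let X' : ℕ → ModuleCat.{u} R
    | 0 => ModuleCat.of R M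
    | _ + 1 => ModuleCat.of R PUnit
  let P : Ch R := { X := fun n => X' n, d := fun _ => 0, dd := fun _ _ => rfl }
  let ff : ∀ n, P.X n →ₗ[R] C.X n
    | 0 => σ
    | _ + 1 => 0
  let f : Ch.Hom P C := ⟨ff, fun n x => by
    cases n <;> simp [ff, P]⟩
  have hσ' : ∀ y : M, W.mkQ (σ y) = y := fun y => LinearMap.congr_fun hσ y
  refine ⟨P, f, ⟨fun x y hxy => ?_, fun y => ?_, fun n x y _ _ => ?_, fun n y hy => ?_⟩, ?_, ?_⟩
  · refine ⟨0, ?_⟩
    show (0 : M) = x
    rw [← hσ' x, show σ x = C.d 0 y from hxy, Submodule.mkQ_apply,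
      (Submodule.Quotient.mk_eq_zero W).mpr ⟨y, rfl⟩]
  · obtain ⟨w, hw⟩ : y - σ (W.mkQ y) ∈ W :=
      (Submodule.Quotient.eq W).mp (hσ' (W.mkQ y)).symm
    exact ⟨W.mkQ y, w, by show y = σ _ + _; rw [hw]; abel⟩
  · exact ⟨0, (PUnit.ext _ _)⟩
  · obtain ⟨y₁, hy₁⟩ := (hexact n y).mp hy
    exact ⟨0, y₁, map_zero _, by rw [map_zero, zero_add, hy₁]⟩
  · rintro (_ | n)
    · exact ‹Module.Projective R M›
    · exact (inferInstance : Module.Projective R PUnit)
  · rintro (_ | n)
    · exact hgM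
    · exact genBy_of_subsingleton R PUnit

/-- Putting a new module in degree zero. -/
def Ch.cons (T : Ch R) (N : ModuleCat.{u} R) (d0 : T.X 0 →ₗ[R] N) (h : ∀ x, d0 (T.d 0 x) = 0) :
    Ch R where
  X n := ((fun k => match k with
    | 0 => N
    | j + 1 => ModuleCat.of R (T.X j)) n : ModuleCat.{u} R)
  d n := match n with
    | 0 => d0
    | j + 1 => T.d j
  dd n x := match n with
    | 0 => h x
    | j + 1 => T.dd j x

/-- The complex obtained by removing the top degree. -/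
noncomputable def cut (C : Ch R) {N : Type u} [AddCommGroup N] [Module R N] (g : N →ₗ[R] C.X 0) :
    Ch R :=
  Ch.cons { X := fun n => C.X (n + 2), d := fun n => C.d (n + 2), dd := fun n x => C.dd (n + 2) x }
    (ModuleCat.of R (LinearMap.ker ((C.d 0).coprod g)))
    (LinearMap.codRestrict _ ((LinearMap.inl R (C.X 1) N).comp (C.d 1))
      (fun x => by simp [C.dd]))
    (fun x => Subtype.ext (Prod.ext (C.dd 1 x) rfl))

theorem tensor_prod_split {M N : Type u} [AddCommGroup M] [Module R M] [AddCommGroup N] [Module R N]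
    (e : B ⊗[R] (M × N)) : e = (LinearMap.inl R M N).baseChange B ((LinearMap.fst R M N).baseChange B e) +
      (LinearMap.inr R M N).baseChange B ((LinearMap.snd R M N).baseChange B e) := by
  induction e using TensorProduct.induction_on with
  | zero => simp
  | tmul b x => simp [← tmul_add]
  | add x y hx hy => rw [map_add, map_add, map_add, map_add, add_add_add_comm, ← hx, ← hy]

theorem cut_fp {C : Ch R} (hC : C.FP) {N : Type u} [AddCommGroup N] [Module R N] [Module.Finite R N]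
    [Module.Projective R N] (g : N →ₗ[R] C.X 0) (hg : Function.Surjective ((C.d 0).coprod g)) :
    (cut C g).FP := by
  rintro (_ | n)
  · have := (hC 0).2; have := (hC 1).1; have := (hC 1).2
    obtain ⟨σ, hσ⟩ := Module.projective_lifting_property ((C.d 0).coprod g) LinearMap.id hg
    let h := (C.d 0).coprod g
    let ρ : C.X 1 × N →ₗ[R] LinearMap.ker h :=
      LinearMap.codRestrict _ (LinearMap.id - σ.comp h) fun x => by
        have e := LinearMap.congr_fun hσ (h x)
        simp only [LinearMap.comp_apply, LinearMap.id_apply] at e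
        simp only [LinearMap.mem_ker, LinearMap.sub_apply, LinearMap.id_apply, LinearMap.comp_apply,
          map_sub]
        exact sub_eq_zero.mpr e.symm
    have hρ : ρ.comp (LinearMap.ker h).subtype = LinearMap.id := LinearMap.ext fun x => Subtype.ext <| by
      show x.1 - σ (h x.1) = x.1
      rw [LinearMap.mem_ker.mp x.2, map_zero, sub_zero]
    exact ⟨Module.Finite.of_surjective ρ fun x => ⟨x.1, LinearMap.congr_fun hρ x⟩,
      Module.Projective.of_split _ ρ hρ⟩
  · exact hC (n + 2)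

set_option maxRecDepth 4000 in
/-- The local hypothesis passes to the cut complex. -/
theorem cut_loc [Module.Flat R B] {C : Ch R} {L : ℕ} {s : ℕ → ℕ} (h : C.Loc B (L + 1) s) {r : ℕ}
    (g : (Fin r → R) →ₗ[R] C.X 0) (hg : Function.Surjective ((C.d 0).coprod g)) :
    ∀ s' : ℕ → ℕ, (s 1 + r ≤ s' 0) → (∀ n, s (n + 2) ≤ s' (n + 1)) → (cut C g).Loc B L s' := by
  intro s' hs0 hs1
  obtain ⟨Q, a, ha, hproj, hgen, hsub⟩ := h
  let N := Fin r → R
  let gB : B ⊗[R] N →ₗ[B] (C.bc B).X 0 := g.baseChange B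
  let g' : B ⊗[R] N →ₗ[B] Q.X 0 := (a.f 0).comp gB
  let h := (C.d 0).coprod g
  let hB : B ⊗[R] (C.X 1 × N) →ₗ[B] (C.bc B).X 0 := h.baseChange B
  let ι : B ⊗[R] LinearMap.ker h →ₗ[B] B ⊗[R] (C.X 1 × N) := (LinearMap.ker h).subtype.baseChange B
  have hιinj : Function.Injective ι :=
    Module.Flat.lTensor_preserves_injective_linearMap _ (LinearMap.ker h).injective_subtype
  have hιex : Function.Exact ι hB := Module.Flat.lTensor_exact B (LinearMap.exact_subtype_ker_map h)
  let p₁ : B ⊗[R] (C.X 1 × N) →ₗ[B] (C.bc B).X 1 := (LinearMap.fst R (C.X 1) N).baseChange B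
  let p₂ : B ⊗[R] (C.X 1 × N) →ₗ[B] B ⊗[R] N := (LinearMap.snd R (C.X 1) N).baseChange B
  let i₁ : (C.bc B).X 1 →ₗ[B] B ⊗[R] (C.X 1 × N) := (LinearMap.inl R (C.X 1) N).baseChange B
  let i₂ : B ⊗[R] N →ₗ[B] B ⊗[R] (C.X 1 × N) := (LinearMap.inr R (C.X 1) N).baseChange B
  have hhB : ∀ e, hB e = (C.bc B).d 0 (p₁ e) + gB (p₂ e) := fun e => by
    induction e using TensorProduct.induction_on with
    | zero => simp
    | tmul b x => exact tmul_add b (C.d 0 x.1) (g x.2)
    | add x y hx hy => rw [map_add, map_add, map_add, map_add, map_add, hx, hy]; abel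
  have p11 : ∀ w, p₁ (i₁ w) = w := fun w => fst_inl_bc w
  have p21 : ∀ w, p₂ (i₁ w) = 0 := fun w => snd_inl_bc w
  have p12 : ∀ w, p₁ (i₂ w) = 0 := fun w => fst_inr_bc w
  have p22 : ∀ w, p₂ (i₂ w) = w := fun w => snd_inr_bc w
  let hQ : Q.X 1 × (B ⊗[R] N) →ₗ[B] Q.X 0 := (Q.d 0).coprod g'
  let Φ : B ⊗[R] (C.X 1 × N) →ₗ[B] Q.X 1 × (B ⊗[R] N) := ((a.f 1).comp p₁).prod p₂
  have hΦ : ∀ e, hQ (Φ e) = a.f 0 (hB e) := fun e => by
    rw [hhB, map_add, ← a.comm 0 (p₁ e)]
    rfl
  have hQsurj : Function.Surjective hQ := fun y => by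
    obtain ⟨x, y₁, rfl⟩ := ha.surj0 y
    obtain ⟨e, rfl⟩ : ∃ e, hB e = x := LinearMap.lTensor_surjective B hg x
    exact ⟨Φ e + (y₁, 0), by rw [map_add, hΦ]; simp [hQ]⟩
  let Q' : Ch B := cut Q g'
  let a0 : B ⊗[R] LinearMap.ker h →ₗ[B] LinearMap.ker hQ :=
    LinearMap.codRestrict _ (Φ.comp ι) fun x => by
      rw [LinearMap.mem_ker, LinearMap.comp_apply, hΦ, hιex.apply_apply_eq_zero, map_zero]
  let af : ∀ n, ((cut C g).bc B).X n →ₗ[B] Q'.X n
    | 0 => a0
    | n + 1 => a.f (n + 2)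
  have hd0 : ∀ w : (C.bc B).X 2, ι (((cut C g).bc B).d 0 w) = i₁ ((C.bc B).d 1 w) := fun w =>
    (bc_comp_apply ((cut C g).d 0) (LinearMap.ker h).subtype w).trans
      (bc_comp_apply (C.d 1) (LinearMap.inl R (C.X 1) N) w).symm
  have hι0 : ∀ w : B ⊗[R] LinearMap.ker h, (C.bc B).d 0 (p₁ (ι w)) + gB (p₂ (ι w)) = 0 := fun w => by
    rw [← hhB]; exact hιex.apply_apply_eq_zero w
  let a' : Ch.Hom ((cut C g).bc B) Q' := ⟨af, fun n x => match n with
    | 0 => by
      refine Subtype.ext ?_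
      show (Q.d 1 (a.f 2 x), (0 : B ⊗[R] N)) = Φ (ι (((cut C g).bc B).d 0 x))
      refine Eq.trans ?_ (congrArg Φ (hd0 x)).symm
      exact Prod.ext ((a.comm 1 x).trans (congrArg (a.f 1) (p11 _)).symm) (p21 _).symm
    | n + 1 => a.comm (n + 2) x⟩
  have hker0 : ∀ (v : (C.bc B).X 1), (C.bc B).d 0 v = 0 → ∃ w, ι w = i₁ v := fun v hv =>
    (hιex (i₁ v)).mp (by rw [hhB, p11, p21, hv, map_zero, zero_add])
  refine ⟨Q', a', ⟨fun x y hxy => ?_, fun y => ?_, fun n x y hx hxy => ?_, fun n y hy => ?_⟩, ?_, ?_, ?_⟩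
  · -- inj0
    have e : Φ (ι x) = (Q.d 1 y, (0 : B ⊗[R] N)) := congrArg Subtype.val hxy
    have e1 : a.f 1 (p₁ (ι x)) = Q.d 1 y := congrArg Prod.fst e
    have e2 : p₂ (ι x) = 0 := congrArg Prod.snd e
    have e3 := hι0 x
    rw [e2, map_zero, add_zero] at e3
    obtain ⟨x₁, hx₁⟩ := ha.inj 0 _ y e3 e1
    refine ⟨x₁, hιinj ?_⟩
    refine (hd0 x₁).trans ?_
    rw [hx₁]
    conv_rhs => rw [tensor_prod_split (ι x)]
    show _ = i₁ (p₁ (ι x)) + i₂ (p₂ (ι x))
    rw [e2, map_zero, add_zero]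
  · -- surj0
    obtain ⟨⟨q, z⟩, hqz⟩ := y
    have hqz' : Q.d 0 q + a.f 0 (gB z) = 0 := hqz
    obtain ⟨w₁, hw₁⟩ := ha.inj0 (gB z) (-q) (by rw [map_neg]; exact eq_neg_of_add_eq_zero_right hqz')
    obtain ⟨v, y₁, hv, hy₁⟩ := ha.surj 0 (q + a.f 1 w₁) (by rw [map_add, a.comm, hw₁]; exact hqz')
    obtain ⟨x, hx⟩ := (hιex (i₁ (v - w₁) + i₂ z)).mp (by
      rw [map_add, hhB, hhB, p11, p21, p12, p22, map_sub, hv, hw₁, map_zero, map_zero]; abel)
    refine ⟨x, y₁, Subtype.ext ?_⟩
    show (q, z) = Φ (ι x) + (Q.d 1 y₁, (0 : B ⊗[R] N))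
    rw [hx]
    show _ = (a.f 1 (p₁ _), p₂ _) + _
    refine Prod.ext ?_ ?_
    · show q = a.f 1 (p₁ (i₁ (v - w₁) + i₂ z)) + Q.d 1 y₁
      rw [map_add p₁, p11, p12, add_zero, map_sub, eq_sub_iff_add_eq.mpr hy₁]
      abel
    · show z = p₂ (i₁ (v - w₁) + i₂ z) + 0
      rw [map_add p₂, p21, p22, add_zero, zero_add]
  · -- inj
    cases n with
    | zero =>
      refine ha.inj 1 x y ?_ hxy
      have h1 := congrArg p₁ ((hd0 x).symm.trans ((congrArg ι hx).trans (map_zero ι)))
      rw [p11, map_zero] at h1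
      exact h1
    | succ n => exact ha.inj (n + 2) x y hx hxy
  · -- surj
    cases n with
    | zero =>
      obtain ⟨x, y₁, hx, hy₁⟩ := ha.surj 1 y (congrArg (fun e => e.1.1) hy)
      refine ⟨x, y₁, hιinj ((hd0 x).trans ?_), hy₁⟩
      rw [hx, map_zero]
      exact (map_zero ι).symm
    | succ n =>
      obtain ⟨x, y₁, hx, hy₁⟩ := ha.surj (n + 2) y hy
      exact ⟨x, y₁, hx, hy₁⟩
  · rintro (_ | n)
    · have : Module.Finite B (Q.X 0) := (hgen 0).finite
      have : Module.Finite B (Q.X 1) := (hgen 1).finite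
      have := hproj 0; have := hproj 1
      exact (cut_fp (C := Q) (fun k => ⟨(hgen k).finite, hproj k⟩) g' hQsurj 0).2
    · exact hproj (n + 2)
  · rintro (_ | n)
    · have := hproj 0
      obtain ⟨σ, hσ⟩ := Module.projective_lifting_property hQ LinearMap.id hQsurj
      let ρ : Q.X 1 × (B ⊗[R] N) →ₗ[B] LinearMap.ker hQ :=
        LinearMap.codRestrict _ (LinearMap.id - σ.comp hQ) fun x => by
          have e := LinearMap.congr_fun hσ (hQ x)
          simp only [LinearMap.comp_apply, LinearMap.id_apply] at e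
          simp only [LinearMap.mem_ker, LinearMap.sub_apply, LinearMap.id_apply, LinearMap.comp_apply,
            map_sub]
          exact sub_eq_zero.mpr e.symm
      refine (((hgen 1).prod (genBy_baseChange (genBy_pi R r))).of_surjective ρ fun x => ⟨x.1, ?_⟩).mono hs0
      refine Subtype.ext ?_
      show x.1 - σ (hQ x.1) = x.1
      rw [LinearMap.mem_ker.mp x.2, map_zero, sub_zero]
    · exact (hgen (n + 2)).mono (hs1 n)
  · rintro (_ | n) hn
    · omega
    · exact hsub (n + 2) (by omega)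

/-- Adding the top degree back. -/
theorem exists_glue {C : Ch R} {N : Type u} [AddCommGroup N] [Module R N] (g : N →ₗ[R] C.X 0)
    (hg : Function.Surjective ((C.d 0).coprod g)) (P' : Ch R) (f' : Ch.Hom P' (cut C g))
    (hf' : f'.IsQis) : ∃ (P : Ch R) (f : Ch.Hom P C), f.IsQis ∧
      Nonempty (N ≃ₗ[R] P.X 0) ∧ ∀ n, Nonempty (P'.X n ≃ₗ[R] P.X (n + 1)) := by
  let f0 : P'.X 0 →ₗ[R] LinearMap.ker ((C.d 0).coprod g) := f'.f 0
  have hf0d : ∀ x : P'.X 1, (f0 (P'.d 0 x)).1 = (C.d 1 (f'.f 1 x), (0 : N)) := fun x =>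
    (congrArg Subtype.val (f'.comm 0 x)).symm
  let P : Ch R := Ch.cons P' (ModuleCat.of R N)
    (-((LinearMap.snd R (C.X 1) N).comp ((LinearMap.ker ((C.d 0).coprod g)).subtype.comp f0)))
    (fun x => by
      show -(f0 (P'.d 0 x)).1.2 = 0
      rw [hf0d, neg_zero])
  let ff : ∀ n, P.X n →ₗ[R] C.X n
    | 0 => g
    | 1 => (LinearMap.fst R (C.X 1) N).comp ((LinearMap.ker ((C.d 0).coprod g)).subtype.comp f0)
    | n + 2 => f'.f (n + 1)
  have hK : ∀ k : LinearMap.ker ((C.d 0).coprod g), C.d 0 k.1.1 + g k.1.2 = 0 := fun k => k.2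
  let f : Ch.Hom P C := ⟨ff, fun n x => match n with
    | 0 => by
      show C.d 0 (f0 x).1.1 = g (-(f0 x).1.2)
      rw [map_neg]; exact eq_neg_of_add_eq_zero_left (hK _)
    | 1 => by
      show C.d 1 (f'.f 1 x) = (f0 (P'.d 0 x)).1.1
      exact (congrArg Prod.fst (hf0d x)).symm
    | n + 2 => f'.comm (n + 1) x⟩
  refine ⟨P, f, ⟨fun (z : N) w hzw => ?_, fun y => ?_, fun n x y hx hxy => ?_, fun n y hy => ?_⟩,
    ⟨LinearEquiv.refl R N⟩, fun n => ⟨LinearEquiv.refl R (P'.X n)⟩⟩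
  · let k : LinearMap.ker ((C.d 0).coprod g) := ⟨(w, -z), by
      show C.d 0 w + g (-z) = 0
      rw [map_neg, ← show g z = C.d 0 w from hzw, add_neg_cancel]⟩
    obtain ⟨p, v, hpv⟩ := hf'.surj0 k
    refine ⟨p, ?_⟩
    have : -z = (f0 p).1.2 + 0 := congrArg (fun e : LinearMap.ker ((C.d 0).coprod g) => e.1.2) hpv
    show -(f0 p).1.2 = z
    rw [← add_zero (f0 p).1.2, ← this, neg_neg]
  · obtain ⟨⟨w, z⟩, rfl⟩ := hg y
    exact ⟨z, w, add_comm _ _⟩
  · cases n with
    | zero =>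
      have hsnd : (f0 x).1.2 = 0 := neg_eq_zero.mp hx
      exact hf'.inj0 x y (Subtype.ext (Prod.ext hxy hsnd))
    | succ n =>
      cases n with
      | zero =>
        refine hf'.inj 0 x y hx ?_
        exact hxy
      | succ n => exact hf'.inj (n + 1) x y hx hxy
  · cases n with
    | zero =>
      obtain ⟨p, v, hpv⟩ := hf'.surj0 (⟨(y, 0), by
        show C.d 0 y + g 0 = 0
        rw [hy, map_zero, add_zero]⟩ : LinearMap.ker ((C.d 0).coprod g))
      refine ⟨p, v, ?_, congrArg (fun e : LinearMap.ker ((C.d 0).coprod g) => e.1.1) hpv⟩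
      have : (0 : N) = (f0 p).1.2 + 0 := congrArg (fun e : LinearMap.ker ((C.d 0).coprod g) => e.1.2) hpv
      show -(f0 p).1.2 = 0
      rw [← add_zero (f0 p).1.2, ← this, neg_zero]
    | succ n =>
      cases n with
      | zero =>
        obtain ⟨p, v, hp, hpv⟩ := hf'.surj 0 y (Subtype.ext (Prod.ext hy rfl))
        exact ⟨p, v, hp, hpv⟩
      | succ n =>
        obtain ⟨p, v, hp, hpv⟩ := hf'.surj (n + 1) y hy
        exact ⟨p, v, hp, hpv⟩

/-- The bounded size representative. -/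
theorem build (hfl : Flag R B m) [Module.Flat R B] : ∀ (L : ℕ) (s : ℕ → ℕ) (C : Ch R), C.FP →
    C.Loc B L s → ∃ (P : Ch R) (f : Ch.Hom P C), f.IsQis ∧ (∀ n, Module.Projective R (P.X n)) ∧
      ∀ n, GenBy R (P.X n) (bound m L s n) := by
  intro L
  induction L with
  | zero => intro s C hC h; exact build_zero hfl hC h
  | succ L ih =>
    intro s C hC h
    obtain ⟨Q, a, ha, hproj, hgen, hsub⟩ := h
    obtain ⟨t, ht⟩ := genBy_coker hfl hC a ha (hgen 0)
    choose x hx using fun i => Submodule.mkQ_surjective (LinearMap.range (C.d 0)) (t i)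
    let g : (Fin (m * s 0) → R) →ₗ[R] C.X 0 := Fintype.linearCombination R x
    have hg : Function.Surjective ((C.d 0).coprod g) := fun y => by
      obtain ⟨c, hc⟩ := Submodule.mem_span_range_iff_exists_fun R |>.mp
        (ht ▸ Submodule.mem_top : (LinearMap.range (C.d 0)).mkQ y ∈ _)
      obtain ⟨w, hw⟩ : y - g c ∈ LinearMap.range (C.d 0) := by
        rw [← Submodule.Quotient.eq]
        show (LinearMap.range (C.d 0)).mkQ y = (LinearMap.range (C.d 0)).mkQ (g c)
        simp only [g, Fintype.linearCombination_apply, map_sum, map_smul, hx, hc]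
      exact ⟨(w, c), by simp [hw]⟩
    have hloc : (cut C g).Loc B L (next m s) :=
      cut_loc ⟨Q, a, ha, hproj, hgen, hsub⟩ g hg _ le_rfl fun _ => le_rfl
    obtain ⟨P', f', hf', hP', hG'⟩ := ih (next m s) (cut C g) (cut_fp hC g hg) hloc
    obtain ⟨P, f, hf, ⟨e0⟩, es⟩ := exists_glue g hg P' f' hf'
    refine ⟨P, f, hf, ?_, ?_⟩
    · rintro (_ | n)
      · exact Module.Projective.of_equiv e0
      · obtain ⟨e⟩ := es n
        have := hP' n
        exact Module.Projective.of_equiv e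
    · rintro (_ | n)
      · exact (genBy_pi R _).of_surjective e0.toLinearMap e0.surjective
      · obtain ⟨e⟩ := es n
        exact (hG' n).of_surjective e.toLinearMap e.surjective

end Groth.Agent.CAlg9.NisSize
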